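import Cfsg.Agent.Lib.SympHyp.Basic
import Cfsg.Agent.Lib.OrderTriples.Final
import Cfsg.Agent.Lib.Invol.CriticalExists
import Cfsg.Agent.Lib.Basics.Frattini

/-!
Odd `p`-groups of large rank centralising involutions: basic tools.
-/

set_option autoImplicit false
set_option linter.all false

namespace Cfsg.Agent.KlingerMason

open Subgroup
open scoped Pointwise commutatorElement
open OrderTriples (coreIn le_normalizer_coreIn coreIn_isPGroup coreIn_le mem_cent)
open SympHyp (Bound Good)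

variable {G : Type*} [Group G] [Finite G] {p m : ℕ} [hp : Fact p.Prime]

/-- Standing hypotheses. -/
structure Ctx (p m : ℕ) (G : Type*) [Group G] : Prop where
  hp2 : p ≠ 2
  hm : 3 ≤ m
  bound : Bound p m G
  good : ∀ A : Subgroup G, IsPGroup p A → A ≠ ⊥ → Good p A
  char2 : ∀ w : G, orderOf w = 2 →
    centralizer ({w} : Set G) ⊓ centralizer (coreIn 2 (centralizer ({w} : Set G)) : Set G) ≤
      coreIn 2 (centralizer ({w} : Set G))

/-- An elementary abelian `p`-subgroup of order `p ^ j`. -/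
structure EA (p j : ℕ) (F : Subgroup G) : Prop where
  comm : ∀ x ∈ F, ∀ y ∈ F, Commute x y
  exp : ∀ x ∈ F, x ^ p = 1
  card : Nat.card F = p ^ j

theorem EA.isPGroup {j : ℕ} {F : Subgroup G} (h : EA p j F) : IsPGroup p F := IsPGroup.of_card h.card

theorem EA.ne_bot {j : ℕ} {F : Subgroup G} (h : EA p j F) (hj : 1 ≤ j) : F ≠ ⊥ := by
  intro e
  have := h.card
  rw [e, card_bot] at this
  exact absurd this.symm (Nat.one_lt_pow (by omega) hp.out.one_lt).ne'

theorem EA.sub {j : ℕ} {F H : Subgroup G} (h : EA p j F) (hH : H ≤ F) :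
    ∃ i ≤ j, EA p i H := by
  obtain ⟨i, hi, hii⟩ := (Nat.dvd_prime_pow hp.out).1 (h.card ▸ card_dvd_of_le hH)
  exact ⟨i, hi, fun x hx y hy => h.comm x (hH hx) y (hH hy), fun x hx => h.exp x (hH hx), hii⟩

theorem EA.extend {j : ℕ} {F : Subgroup G} (h : EA p j F) {d : G} (hd : orderOf d = p)
    (hc : ∀ x ∈ F, Commute d x) (hn : d ∉ F) : EA p (j + 1) (F ⊔ zpowers d) := by
  obtain ⟨h1, h2, h3⟩ := SympHyp.extend h.comm h.exp h.card hd hc hn
  exact ⟨h1, h2, h3⟩

theorem EA.coatom_card {j : ℕ} {F H : Subgroup G} (h : EA p j F) (hH : H ≤ F) {x : G}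
    (hx : x ∈ F) (hxH : x ∉ H) (he : H ⊔ zpowers x = F) : EA p (j - 1) H ∧ 1 ≤ j := by
  obtain ⟨i, hi, hH'⟩ := h.sub hH
  have hxo := OrderTriples.orderOf_prime_of_pow hp.out (h.exp x hx) (fun e => hxH (e ▸ one_mem H))
  have h' := hH'.extend hxo (fun y hy => h.comm x hx y (hH hy)) hxH
  rw [he] at h'
  have e := Nat.pow_right_injective hp.out.two_le (h'.card.symm.trans h.card)
  exact ⟨by rw [show j - 1 = i by omega]; exact hH', by omega⟩

theorem EA.sup_eq {j : ℕ} {F H : Subgroup G} (h : EA p (j + 1) F) (hH : H ≤ F) (hH' : EA p j H)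
    {x : G} (hx : x ∈ F) (hxH : x ∉ H) : H ⊔ zpowers x = F := by
  have hxo := OrderTriples.orderOf_prime_of_pow hp.out (h.exp x hx) (fun e => hxH (e ▸ one_mem H))
  have h' := hH'.extend hxo (fun y hy => h.comm x hx y (hH hy)) hxH
  exact eq_of_le_of_card_ge (sup_le hH (zpowers_le.2 hx)) (by rw [h.card, h'.card])

theorem fixed_of_sup {H : Subgroup G} {x a : G} (hH : ∀ h ∈ H, Commute h a) (hx : Commute x a) :
    ∀ f ∈ H ⊔ zpowers x, Commute f a := by
  intro f hf
  have hle : H ⊔ zpowers x ≤ centralizer ({a} : Set G) :=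
    sup_le (fun h hh => mem_cent.2 (hH h hh).symm) (zpowers_le.2 (mem_cent.2 hx.symm))
  exact (mem_cent.1 (hle hf)).symm

/-- An element of odd prime order twisting by a fixed `2`-element fixes. -/
theorem fixed_twist (hp2 : p ≠ 2) {h a c : G} (hh : h ^ p = 1) (hc : Commute h c)
    (hca : h * a * h⁻¹ = c * a) {k : ℕ} (hk : c ^ 2 ^ k = 1) : Commute h a := by
  have key : ∀ i : ℕ, h ^ i * a * (h ^ i)⁻¹ = c ^ i * a := by
    intro i
    induction i with
    | zero => simp
    | succ i ih =>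
      rw [pow_succ' h i, mul_inv_rev]
      calc h * h ^ i * a * ((h ^ i)⁻¹ * h⁻¹) = h * (h ^ i * a * (h ^ i)⁻¹) * h⁻¹ := by group
        _ = (h * c ^ i) * a * h⁻¹ := by rw [ih]; group
        _ = c ^ i * (h * a * h⁻¹) := by rw [(hc.pow_right i).eq]; group
        _ = c ^ (i + 1) * a := by rw [hca, ← mul_assoc, ← pow_succ]
  have h1 := key p
  rw [hh, one_mul, inv_one, mul_one] at h1
  have h2 : c ^ p = 1 := mul_eq_right.1 h1.symm
  have h3 : orderOf c ∣ Nat.gcd p (2 ^ k) :=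
    Nat.dvd_gcd (orderOf_dvd_of_pow_eq_one h2) (orderOf_dvd_of_pow_eq_one hk)
  have hcop : p.Coprime (2 ^ k) := ((Nat.coprime_primes hp.out Nat.prime_two).2 hp2).pow_right k
  rw [hcop] at h3
  rw [orderOf_eq_one_iff.1 (Nat.dvd_one.1 h3), one_mul] at hca
  exact mul_inv_eq_iff_eq_mul.1 hca

theorem commute_of_sq (hp2 : p ≠ 2) {h a : G} (hh : h ^ p = 1) (h2 : Commute (h ^ 2) a) :
    Commute h a := by
  by_cases h1 : h = 1
  · rw [h1]; exact Commute.one_left a
  have ho : orderOf h = p := orderOf_eq_prime hh h1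
  obtain ⟨k, hk⟩ := exists_pow_eq_self_of_coprime (x := h) (n := 2)
    (by rw [ho]; exact (Nat.coprime_primes Nat.prime_two hp.out).2 (Ne.symm hp2))
  exact hk ▸ h2.pow_left k

theorem orbit_bound {B Y C : Subgroup G} (hBY : B ≤ normalizer (Y : Set G)) (hC : C ≤ Y)
    (hCB : ∀ c ∈ C, ∀ b ∈ B, Commute b c)
    {y b : G} (hy : y ∈ Y) (hb : b ∈ B) (hbp : b ^ p = 1) (hne : ¬ Commute b y) :
    p + Nat.card C ≤ Nat.card Y := by
  have hb1 : b ≠ 1 := fun h => hne (h ▸ Commute.one_left y)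
  have hbo : orderOf b = p := orderOf_eq_prime hbp hb1
  have hmem : ∀ i : ℕ, b ^ i * y * (b ^ i)⁻¹ ∈ Y := fun i =>
    (mem_normalizer_iff.1 (hBY (pow_mem hb i)) y).1 hy
  have hout : ∀ i : ℕ, b ^ i * y * (b ^ i)⁻¹ ∉ C := by
    intro i h
    have hc : Commute (b ^ i) (b ^ i * y * (b ^ i)⁻¹) := hCB _ h _ (pow_mem hb i)
    have : b ^ i * y * (b ^ i)⁻¹ = y := by
      have h2 : b ^ i * (b ^ i * y * (b ^ i)⁻¹) * (b ^ i)⁻¹ = b ^ i * y * (b ^ i)⁻¹ := by
        rw [hc.eq, mul_inv_cancel_right]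
      exact mul_left_cancel (mul_right_cancel h2)
    exact hne (this ▸ hCB _ h b hb)
  let f : Fin p ⊕ ↥C → ↥Y :=
    fun s => s.elim (fun i : Fin p => ⟨_, hmem (i : ℕ)⟩) (fun c : ↥C => ⟨(c : G), hC c.2⟩)
  have hf : Function.Injective f := by
    rintro (i | c) (j | c') h
    · have h' : b ^ (i : ℕ) * y * (b ^ (i : ℕ))⁻¹ = b ^ (j : ℕ) * y * (b ^ (j : ℕ))⁻¹ :=
        congrArg Subtype.val h
      congr 1
      by_contra hij
      have key : ∀ i j : ℕ, i < j → j < p → b ^ i * y * (b ^ i)⁻¹ ≠ b ^ j * y * (b ^ j)⁻¹ := by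
        intro i j hij hj h
        obtain ⟨k, rfl⟩ := Nat.exists_eq_add_of_lt hij
        have h1 : y = b ^ (k + 1) * y * (b ^ (k + 1))⁻¹ := by
          have h2 : b ^ i * y * (b ^ i)⁻¹ =
              b ^ i * (b ^ (k + 1) * y * (b ^ (k + 1))⁻¹) * (b ^ i)⁻¹ := by
            rw [h, show i + k + 1 = i + (k + 1) by ring, pow_add, mul_inv_rev]; group
          exact mul_left_cancel (mul_right_cancel h2)
        have h3 : Commute (b ^ (k + 1)) y := eq_mul_inv_iff_mul_eq.1 h1 |>.symm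
        have hcop : (k + 1).Coprime (orderOf b) := by
          rw [hbo]
          exact (hp.out.coprime_iff_not_dvd.2
            (fun hd => absurd (Nat.le_of_dvd (by omega) hd) (by omega))).symm
        obtain ⟨t, ht⟩ := exists_pow_eq_self_of_coprime hcop
        exact hne (ht ▸ h3.pow_left t)
      rcases lt_or_gt_of_ne (fun e => hij (Fin.ext e)) with hlt | hgt
      · exact key i j hlt j.2 h'
      · exact key j i hgt i.2 h'.symm
    · have h' : b ^ (i : ℕ) * y * (b ^ (i : ℕ))⁻¹ = (c' : G) := congrArg Subtype.val h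
      exact (hout i (by rw [h']; exact c'.2)).elim
    · have h' : (c : G) = b ^ (j : ℕ) * y * (b ^ (j : ℕ))⁻¹ := congrArg Subtype.val h
      exact (hout j (by rw [← h']; exact c.2)).elim
    · have h' : (c : G) = (c' : G) := congrArg (fun z : ↥Y => (z : G)) h
      exact congrArg Sum.inr (Subtype.ext h')
  have := Nat.card_le_card_of_injective f hf
  rwa [Nat.card_sum, Nat.card_fin] at this

/-- Going up: an element of order `p` centralised by a large part of an elementary `2`-group. -/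
theorem up (hp2 : p ≠ 2) {j : ℕ} {J W : Subgroup G} (hJ : EA p j J) (hG : Good p J)
    {i : ℕ} (hW : EA 2 i W) (hi : 1 ≤ i) (hWJ : ∀ w ∈ W, ∀ a ∈ J, Commute w a) :
    ∃ K ≤ W, ∃ d : G, Nat.card W ≤ 2 * Nat.card K ∧ orderOf d = p ∧ d ∉ J ∧
      (∀ a ∈ J, Commute d a) ∧ ∀ k ∈ K, Commute d k := by
  haveI : Fact (2 : ℕ).Prime := ⟨Nat.prime_two⟩
  set C := centralizer (J : Set G) with hC
  set Q := coreIn p C with hQ
  have hQp : IsPGroup p Q := coreIn_isPGroup p C
  haveI : IsMulCommutative W := ⟨⟨fun a b => Subtype.ext (hW.comm a a.2 b b.2)⟩⟩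
  have hWC : W ≤ C := fun w hw => mem_centralizer_iff.2 fun a ha => (hWJ w hw a ha).eq.symm
  obtain ⟨w, hw, hwo⟩ := OrderTriples.exists_orderOf Nat.prime_two hW.isPGroup (hW.ne_bot hi)
  by_contra hcon
  push Not at hcon
  apply SympHyp.not_cent_core hp2 hG hwo (hWJ w hw)
  intro q hq
  have hgen := Basics.le_iSup_inf_centralizer_cyclic W Q (hWC.trans (le_normalizer_coreIn p C))
    (OrderTriples.pGroup_coprime Nat.prime_two hp.out (Ne.symm hp2) hW.isPGroup hQp)
  refine mem_cent.1 ((hgen.trans (iSup₂_le fun K hK a ha => mem_cent.2 ?_)) hq)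
  obtain ⟨hKW, x, hx, hKx⟩ := hK
  by_contra hne
  have hwP : w ∈ normalizer ((Q ⊓ centralizer (K : Set G) : Subgroup G) : Set G) :=
    OrderTriples.mem_normalizer_inf (le_normalizer_coreIn p C (hWC hw))
      (le_normalizer (mem_centralizer_iff.2 fun k hk => (hW.comm k (hKW hk) w hw).eq))
  obtain ⟨d, hd, hdo, hdinv⟩ := SympHyp.exists_inverted (hQp.to_le inf_le_left) hwo hwP
    fun h => hne (h a ha)
  have hdJ : d ∉ J := by
    intro h
    refine SympHyp.ne_inv hp2 hdo ?_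
    rw [← hdinv, (hWJ w hw d h).eq, mul_inv_cancel_right]
  have hcardK : Nat.card W ≤ 2 * Nat.card K := by
    by_cases hxK : x ∈ K
    · rw [sup_eq_left.2 (zpowers_le.2 hxK)] at hKx
      rw [hKx]; omega
    · obtain ⟨hKe, hi'⟩ := hW.coatom_card hKW hx hxK hKx
      rw [hW.card, hKe.card]
      conv_lhs => rw [show i = i - 1 + 1 by omega, pow_succ]
      rw [mul_comm]
  obtain ⟨k, hk, hdk⟩ := hcon K hKW d hcardK hdo hdJ
    (fun a ha => (mem_centralizer_iff.1 (coreIn_le p C hd.1) a ha).symm)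
  exact hdk (mem_centralizer_iff.1 hd.2 k hk).symm

/-- A core chain inside the `2`-core of the centraliser of an involution. -/
structure Crit (F : Subgroup G) (w : G) (C : Subgroup G) : Prop where
  le : C ≤ coreIn 2 (centralizer ({w} : Set G))
  norm : centralizer ({w} : Set G) ≤ normalizer (C : Set G)
  comm : ∀ a ∈ C, ∀ b ∈ C, a * b * a⁻¹ * b⁻¹ = 1 ∨ a * b * a⁻¹ * b⁻¹ = w
  sq : ∀ a ∈ C, ∀ f ∈ F, Commute f (a ^ 2)
  faithful : ∀ f ∈ F, (∀ a ∈ C, Commute f a) → f = 1

/-- An involution fixed by a group of rank `m`. -/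
structure Fix (m p : ℕ) (F : Subgroup G) (w : G) : Prop where
  ea : EA p m F
  ord : orderOf w = 2
  cent : ∀ x ∈ F, Commute w x

theorem Fix.le_cent {F : Subgroup G} {w : G} (hF : Fix m p F w) :
    F ≤ centralizer ({w} : Set G) := fun x hx => mem_cent.2 (hF.cent x hx)

theorem Ctx.goodEA (X : Ctx p m G) {j : ℕ} {A : Subgroup G} (hA : EA p j A) (hj : 1 ≤ j) :
    Good p A := X.good A hA.isPGroup (hA.ne_bot hj)

/-- An abelian invariant `2`-group containing `w` is fixed, with `w` its only involution. -/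
theorem Ctx.omega_fixed (X : Ctx p m G) {F : Subgroup G} {w : G} (hF : Fix m p F w)
    {U : Subgroup G} (hU : IsPGroup 2 U) (hUc : ∀ x ∈ U, ∀ y ∈ U, Commute x y) (hwU : w ∈ U)
    (hFU : F ≤ normalizer (U : Set G)) :
    (∀ u ∈ U, ∀ f ∈ F, Commute f u) ∧ ∀ u ∈ U, u ^ 2 = 1 → u = 1 ∨ u = w := by
  haveI : Fact (2 : ℕ).Prime := ⟨Nat.prime_two⟩
  let V : Subgroup G :=
    { carrier := {x | x ∈ U ∧ x ^ 2 = 1}
      one_mem' := ⟨one_mem _, one_pow _⟩
      mul_mem' := fun {a b} ha hb => ⟨mul_mem ha.1 hb.1, by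
        rw [(hUc a ha.1 b hb.1).mul_pow, ha.2, hb.2, one_mul]⟩
      inv_mem' := fun {a} ha => ⟨inv_mem ha.1, by rw [inv_pow, ha.2, inv_one]⟩ }
  have hFV : F ≤ normalizer (V : Set G) := by
    intro g hg
    have h := hFU hg
    rw [mem_normalizer_iff] at h ⊢
    intro x
    show (x ∈ U ∧ x ^ 2 = 1) ↔ (g * x * g⁻¹ ∈ U ∧ (g * x * g⁻¹) ^ 2 = 1)
    rw [conj_pow, conj_eq_one_iff]
    exact and_congr_left fun _ => h x
  have hVp : IsPGroup 2 V := hU.to_le fun x hx => hx.1
  have hwV : w ∈ V := ⟨hwU, hF.ord ▸ pow_orderOf_eq_one w⟩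
  haveI : IsMulCommutative F := ⟨⟨fun a b => Subtype.ext (hF.ea.comm a a.2 b b.2)⟩⟩
  have hVfix : ∀ v ∈ V, ∀ f ∈ F, Commute f v := by
    have hgen := Basics.le_iSup_inf_centralizer_cyclic F V hFV
      (OrderTriples.pGroup_coprime hp.out Nat.prime_two X.hp2 hF.ea.isPGroup hVp)
    suffices hle : V ≤ centralizer (F : Set G) from fun v hv f hf =>
      mem_centralizer_iff.1 (hle hv) f hf
    refine hgen.trans (iSup₂_le fun A hA => ?_)
    obtain ⟨hAF, x, hx, hAx⟩ := hA
    by_cases hxA : x ∈ A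
    · rw [sup_eq_left.2 (zpowers_le.2 hxA)] at hAx
      rw [hAx]
      exact inf_le_right
    obtain ⟨hA', -⟩ := hF.ea.coatom_card hAF hx hxA hAx
    intro y hy
    by_contra hyF
    set Y : Subgroup G := V ⊓ centralizer (A : Set G) with hY
    have hFY : F ≤ normalizer (Y : Set G) := fun b hb => OrderTriples.mem_normalizer_inf (hFV hb)
      (le_normalizer (mem_centralizer_iff.2 fun a ha => (hF.ea.comm a (hAF ha) b hb).eq))
    have hwY : w ∈ Y := ⟨hwV, mem_centralizer_iff.2 fun a ha => (hF.cent a (hAF ha)).eq.symm⟩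
    have hcardY : Nat.card Y < 8 := by
      by_contra h
      exact SympHyp.no_eight X.hp2 X.bound (X.goodEA hA' (by have := X.hm; omega))
        (m := m - 1) (by have := X.hm; omega) hA'.comm hA'.exp hA'.card (W := Y)
        (fun a ha c hc => hUc a ha.1.1 c hc.1.1) (fun a ha => ha.1.2) (not_lt.1 h)
        (fun a ha c hc => (mem_centralizer_iff.1 ha.2 c hc).symm)
    obtain ⟨b, hb, hby⟩ : ∃ b ∈ F, ¬ Commute b y := by
      by_contra h
      push Not at h
      exact hyF (mem_centralizer_iff.2 fun b hb => h b hb)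
    have hbound := orbit_bound hFY (C := zpowers w) (zpowers_le.2 hwY)
      (fun c hc f hf => by
        obtain ⟨k, rfl⟩ := mem_zpowers_iff.1 hc
        exact (hF.cent f hf).symm.zpow_right k) hy hb (hF.ea.exp b hb) hby
    rw [Nat.card_zpowers, hF.ord] at hbound
    obtain ⟨k, hk⟩ := IsPGroup.iff_card.1 (hVp.to_le (inf_le_left : Y ≤ V))
    rw [hk] at hbound hcardY
    have hk3 : k < 3 := (Nat.pow_lt_pow_iff_right one_lt_two).1 (hcardY : 2 ^ k < 2 ^ 3)
    have := hp.out.two_le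
    have := X.hp2
    interval_cases k <;> omega
  have huniq : ∀ u ∈ U, u ^ 2 = 1 → u = 1 ∨ u = w := by
    intro u hu hu2
    by_contra hcon
    push Not at hcon
    obtain ⟨A0, hA0⟩ := Sylow.exists_subgroup_card_pow_prime (G := F) p (n := m - 1)
      (hF.ea.card ▸ pow_dvd_pow p (Nat.sub_le m 1))
    have hA : EA p (m - 1) (A0.map F.subtype) :=
      ⟨fun x hx y hy => hF.ea.comm x (map_subtype_le _ hx) y (map_subtype_le _ hy),
        fun x hx => hF.ea.exp x (map_subtype_le _ hx),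
        by rw [card_map_of_injective F.subtype_injective, hA0]⟩
    exact SympHyp.no_two X.hp2 X.bound (X.goodEA hA (by have := X.hm; omega)) hF.ea.comm hF.ea.exp
      hF.ea.card (map_subtype_le A0) (OrderTriples.orderOf_prime_of_pow Nat.prime_two hu2 hcon.1)
      hF.ord hcon.2 (hUc u hu w hwU) (fun f hf => (hVfix u ⟨hu, hu2⟩ f hf).symm) hF.cent
  refine ⟨fun u hu f hf => ?_, huniq⟩
  obtain ⟨k, hk⟩ := hU ⟨u, hu⟩
  have hk' : u ^ 2 ^ k = 1 := congrArg Subtype.val hk
  clear hk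
  induction k generalizing u with
  | zero => rw [pow_zero, pow_one] at hk'; rw [hk']; exact Commute.one_right f
  | succ k ih =>
    have hu2 : Commute f (u ^ 2) := ih (u ^ 2) (pow_mem hu 2) (by rw [← pow_mul, ← pow_succ']; exact hk')
    have hfu : f * u * f⁻¹ ∈ U := (mem_normalizer_iff.1 (hFU hf) u).1 hu
    set c := f * u * f⁻¹ * u⁻¹ with hc
    have hcU : c ∈ U := mul_mem hfu (inv_mem hu)
    have hc2 : c ^ 2 = 1 := by
      rw [hc, (hUc _ hfu _ (inv_mem hu)).mul_pow, conj_pow, hu2.eq, mul_inv_cancel_right, inv_pow,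
        mul_inv_cancel]
    refine fixed_twist X.hp2 (hF.ea.exp f hf) (hVfix c ⟨hcU, hc2⟩ f hf) (c := c) ?_ (k := 1)
      (by rw [pow_one]; exact hc2)
    rw [hc, inv_mul_cancel_right]

theorem Ctx.exists_crit (X : Ctx p m G) {F : Subgroup G} {w : G} (hF : Fix m p F w) :
    ∃ C, Crit F w C := by
  haveI : Fact (2 : ℕ).Prime := ⟨Nat.prime_two⟩
  set L := centralizer ({w} : Set G) with hL
  set O := coreIn 2 L with hO
  have hO2 : IsPGroup 2 O := coreIn_isPGroup 2 L
  have hwL : w ∈ L := mem_cent.2 (Commute.refl w)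
  have hOw : ∀ a ∈ O, Commute w a := fun a ha => mem_cent.1 (coreIn_le 2 L ha)
  have hwO : w ∈ O :=
    X.char2 w hF.ord ⟨hwL, mem_centralizer_iff.2 fun a ha => (hOw a ha).eq.symm⟩
  obtain ⟨C₀, hchar, hfr, hcomm, hself⟩ := Invol.CriticalExists.exists_critical hO2
  set C := C₀.map O.subtype with hC
  have hLC : L ≤ normalizer (C : Set G) := by
    intro g hg
    have hgO : g ∈ normalizer (O : Set G) := le_normalizer_coreIn 2 L hg
    have key : ∀ g ∈ normalizer (O : Set G), ∀ x ∈ C, g * x * g⁻¹ ∈ C := by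
      rintro g hg _ ⟨x, hx, rfl⟩
      have h := characteristic_iff_map_eq.1 hchar (O.normalizerMonoidHom ⟨g, hg⟩)
      exact ⟨O.normalizerMonoidHom ⟨g, hg⟩ x, h.le (mem_map_of_mem _ hx), rfl⟩
    rw [mem_normalizer_iff]
    refine fun x => ⟨key g hgO x, fun h => ?_⟩
    have := key g⁻¹ (inv_mem hgO) _ h
    simpa [mul_assoc] using this
  set U := C ⊓ centralizer (C : Set G) with hUdef
  have hCO : C ≤ O := map_subtype_le _
  have hUc : ∀ x ∈ U, ∀ y ∈ U, Commute x y := fun x hx y hy => mem_centralizer_iff.1 hy.2 x hx.1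
  have hwU : w ∈ U := by
    have hcen : (⟨w, hwO⟩ : O) ∈ centralizer (C₀ : Set O) :=
      mem_centralizer_iff.2 fun x _ => Subtype.ext (hOw x x.2).eq.symm
    exact ⟨⟨_, hself hcen, rfl⟩, mem_centralizer_iff.2 fun a ha => (hOw a (hCO ha)).eq.symm⟩
  have hFL : F ≤ L := hF.le_cent
  have hFC : F ≤ normalizer (C : Set G) := hFL.trans hLC
  have hFU : F ≤ normalizer (U : Set G) := fun f hf => OrderTriples.mem_normalizer_inf (hFC hf)
    (by
      have key : ∀ g ∈ normalizer (C : Set G), ∀ x ∈ centralizer (C : Set G),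
          g * x * g⁻¹ ∈ centralizer (C : Set G) :=
        fun g hg x hx => OrderTriples.conj_mem_cent hx hg
      rw [mem_normalizer_iff]
      refine fun x => ⟨key f (hFC hf) x, fun h => ?_⟩
      have := key f⁻¹ (inv_mem (hFC hf)) _ h
      simpa [mul_assoc] using this)
  obtain ⟨hUfix, hUinv⟩ := X.omega_fixed hF (hO2.to_le (inf_le_left.trans hCO)) hUc hwU hFU
  have hsqU : ∀ a ∈ C, a ^ 2 ∈ U := by
    rintro _ ⟨a, ha, rfl⟩
    have h1 : a ^ 2 ∈ (frattini C₀).map C₀.subtype :=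
      ⟨⟨a, ha⟩ ^ 2, Basics.pow_mem_frattini (hO2.to_subgroup C₀) _, rfl⟩
    rw [← map_pow]
    refine ⟨mem_map_of_mem _ (pow_mem ha 2), mem_centralizer_iff.2 ?_⟩
    rintro _ ⟨b, hb, rfl⟩
    exact congrArg O.subtype (mem_centralizer_iff.1 (hfr h1) b hb)
  have hcomU : ∀ a ∈ C, ∀ b ∈ C, a * b * a⁻¹ * b⁻¹ ∈ U := by
    rintro _ ⟨a, ha, rfl⟩ _ ⟨b, hb, rfl⟩
    have h := hcomm (commutator_mem_commutator ha (mem_top b))
    rw [commutatorElement_def] at h
    refine ⟨⟨_, h.1, by simp⟩, mem_centralizer_iff.2 ?_⟩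
    rintro _ ⟨c, hc, rfl⟩
    have := congrArg O.subtype (mem_centralizer_iff.1 h.2 c hc)
    simpa [map_mul, map_inv] using this
  refine ⟨C, hCO, hLC, fun a ha b hb => hUinv _ (hcomU a ha b hb) ?_,
    fun a ha f hf => hUfix _ (hsqU a ha) f hf, fun f hf hfix => ?_⟩
  · set y := a * b * a⁻¹ * b⁻¹ with hy
    have hya : Commute a y := mem_centralizer_iff.1 (hcomU a ha b hb).2 a ha
    have h2 : Commute (a ^ 2) b := (mem_centralizer_iff.1 (hsqU a ha).2 b hb).symm
    have hab : a * b * a⁻¹ = y * b := by rw [hy]; group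
    have : a ^ 2 * b * (a ^ 2)⁻¹ = y ^ 2 * b := by
      calc a ^ 2 * b * (a ^ 2)⁻¹ = a * (a * b * a⁻¹) * a⁻¹ := by rw [sq]; group
        _ = a * y * b * a⁻¹ := by rw [hab]; group
        _ = y * (a * b * a⁻¹) := by rw [hya.eq]; group
        _ = y ^ 2 * b := by rw [hab, ← mul_assoc, ← sq]
    rw [h2.eq, mul_inv_cancel_right] at this
    exact mul_eq_right.1 this.symm
  · by_contra hf1
    set A := zpowers f with hA
    have hAC : ∀ a ∈ C, Commute f a := hfix
    have hfO : f ∈ normalizer (O : Set G) := le_normalizer_coreIn 2 L (hFL hf)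
    have hAO : A ≤ normalizer (O : Set G) := zpowers_le.2 hfO
    have hfC : A ≤ centralizer (C : Set G) :=
      zpowers_le.2 (mem_centralizer_iff.2 fun a ha => (hAC a ha).eq.symm)
    have h1 : ⁅C, A⁆ = ⊥ := by
      rw [commutator_comm]; exact commutator_eq_bot_iff_le_centralizer.2 hfC
    have hOC : ⁅O, C⁆ ≤ C := le_normalizer_iff_commutator_le_right.1 ((coreIn_le 2 L).trans hLC)
    have h2 : ⁅⁅O, C⁆, A⁆ = ⊥ :=
      le_bot_iff.1 ((commutator_mono hOC le_rfl).trans h1.le)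
    have h3 : ⁅⁅C, A⁆, O⁆ = ⊥ := by rw [h1, commutator_bot_left]
    have h4 : ⁅⁅A, O⁆, C⁆ = ⊥ := commutator_commutator_eq_bot_of_rotate h2 h3
    have h5 : ⁅O, A⁆ ≤ C := by
      intro x hx
      have hxc : x ∈ centralizer (C : Set G) := by
        rw [commutator_comm] at hx
        exact commutator_eq_bot_iff_le_centralizer.1 h4 hx
      have hxO : x ∈ O := le_normalizer_iff_commutator_le_left.1 hAO hx
      exact ⟨⟨x, hxO⟩, hself (mem_centralizer_iff.2 fun c hc =>
        Subtype.ext (mem_centralizer_iff.1 hxc c ⟨c, hc, rfl⟩)), rfl⟩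
    have h6 : ⁅⁅O, A⁆, A⁆ = ⊥ := le_bot_iff.1 ((commutator_mono h5 le_rfl).trans h1.le)
    have hfo : orderOf f = p := orderOf_eq_prime (hF.ea.exp f hf) hf1
    have hAO' : A ≤ centralizer (O : Set G) :=
      Basics.le_centralizer_of_commutator_commutator_eq_bot A O hAO
        (OrderTriples.pGroup_coprime hp.out Nat.prime_two X.hp2
          (hF.ea.isPGroup.to_le (zpowers_le.2 hf)) hO2)
        (Or.inr (by haveI := hO2.isNilpotent; infer_instance)) h6
    have hfmem : f ∈ O := X.char2 w hF.ord ⟨hFL hf, hAO' (mem_zpowers f)⟩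
    exact X.hp2 (OrderTriples.primes_pGroup Nat.prime_two hO2 p hp.out
      (hfo ▸ orderOf_dvd_natCard O hfmem))

end Cfsg.Agent.KlingerMason
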