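import Cfsg.Agent.Lib.KlingerMason.Basic
import Cfsg.Agent.Lib.ClassK.AxB
import Cfsg.Prelude.Def_LocalEven
import Cfsg.Prelude.Def_CaseTheorems

/-!
Odd `p`-groups of rank three do not centralise involutions.
-/

set_option autoImplicit false
set_option linter.all false

namespace Cfsg.Agent.KlingerMason

open Subgroup
open scoped Pointwise commutatorElement
open OrderTriples (coreIn le_normalizer_coreIn coreIn_isPGroup coreIn_le mem_cent)
open SympHyp (Good)

variable {G : Type*} [Group G] [Finite G] {p m : ℕ} [hp : Fact p.Prime]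
variable {F : Subgroup G} {w : G} {C : Subgroup G}

theorem Crit.isPGroup (hC : Crit F w C) : IsPGroup 2 C := by
  haveI : Fact (2 : ℕ).Prime := ⟨Nat.prime_two⟩
  exact (coreIn_isPGroup 2 _).to_le hC.le

theorem Crit.commute_w (hC : Crit F w C) {a : G} (ha : a ∈ C) : Commute w a :=
  mem_cent.1 (coreIn_le 2 _ (hC.le ha))

theorem Crit.conj_mem (hC : Crit F w C) (hF : Fix m p F w) {a f : G} (ha : a ∈ C) (hf : f ∈ F) :
    f * a * f⁻¹ ∈ C :=
  (mem_normalizer_iff.1 (hC.norm (hF.le_cent hf)) a).1 ha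

theorem Crit.eps_fixed (hF : Fix m p F w) {e f : G} (he : e = 1 ∨ e = w) (hf : f ∈ F) :
    Commute f e := by
  rcases he with rfl | rfl
  · exact Commute.one_right f
  · exact (hF.cent f hf).symm

theorem eps_sq (hw : orderOf w = 2) {e : G} (he : e = 1 ∨ e = w) : e ^ 2 ^ 1 = 1 := by
  rcases he with rfl | rfl
  · exact one_pow _
  · rw [pow_one, ← hw, pow_orderOf_eq_one]

/-- A moved element with good commutation. -/
theorem exists_moved (X : Ctx p m G) (hF : Fix m p F w) (hC : Crit F w C) {H : Subgroup G}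
    (hH : H ≤ F) {h a : G} (hh : h ∈ F) (hsup : H ⊔ zpowers h = F) (ha : a ∈ C)
    (haH : ∀ x ∈ H, Commute x a) (hane : ¬ ∀ f ∈ F, Commute f a) :
    ∃ r ∈ C, (∀ x ∈ H, Commute x r) ∧ ¬ Commute h r ∧
      (∀ b ∈ C, Commute h b → Commute r b) ∧ (r ^ 2 = 1 ∨ r ^ 2 = w) := by
  have hha : ¬ Commute h a := fun e => hane (hsup ▸ fixed_of_sup haH e)
  set a' := h * a * h⁻¹ with ha'
  have ha'C : a' ∈ C := hC.conj_mem hF ha hh
  have hrC : a' * a⁻¹ ∈ C := C.mul_mem ha'C (C.inv_mem ha)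
  refine ⟨a' * a⁻¹, hrC, fun x hx => ?_, fun e => hha ?_, fun b hb hhb => ?_, ?_⟩
  · have hxh : Commute x h := hF.ea.comm x (hH hx) h hh
    exact (((hxh.mul_right (haH x hx)).mul_right hxh.inv_right)).mul_right (haH x hx).inv_right
  · obtain ⟨k, hk⟩ := hC.isPGroup ⟨_, hrC⟩
    exact fixed_twist X.hp2 (hF.ea.exp h hh) e (by rw [ha']; group) (congrArg Subtype.val hk)
  · obtain ⟨e, he, hea⟩ : ∃ e, (e = 1 ∨ e = w) ∧ a * b * a⁻¹ * b⁻¹ = e :=
      ⟨_, hC.comm a ha b hb, rfl⟩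
    have h1 : a * b * a⁻¹ = e * b := by rw [← hea]; group
    have h2 : a' * b * a'⁻¹ = e * b := by
      calc a' * b * a'⁻¹ = h * (a * (h⁻¹ * b * h) * a⁻¹) * h⁻¹ := by rw [ha']; group
        _ = h * (a * b * a⁻¹) * h⁻¹ := by rw [mul_assoc h⁻¹, ← hhb.eq, inv_mul_cancel_left]
        _ = h * (e * b) * h⁻¹ := by rw [h1]
        _ = e * b := by
          rw [((Crit.eps_fixed hF he hh).mul_right hhb).eq, mul_inv_cancel_right]
    have h3 : Commute (a' * a⁻¹) (a * b * a⁻¹) := by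
      show a' * a⁻¹ * (a * b * a⁻¹) = a * b * a⁻¹ * (a' * a⁻¹)
      calc a' * a⁻¹ * (a * b * a⁻¹) = a' * b * a⁻¹ := by group
        _ = (a' * b * a'⁻¹) * a' * a⁻¹ := by group
        _ = a * b * a⁻¹ * (a' * a⁻¹) := by rw [h2, h1]; group
    have hew : Commute (a' * a⁻¹) e := by
      rcases he with rfl | rfl
      · exact Commute.one_right _
      · exact (hC.commute_w hrC).symm
    rw [h1] at h3
    have h4 := hew.inv_right.mul_right h3
    rwa [inv_mul_cancel_left] at h4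
  · obtain ⟨e, he, hea⟩ : ∃ e, (e = 1 ∨ e = w) ∧ a⁻¹ * a' * a⁻¹⁻¹ * a'⁻¹ = e :=
      ⟨_, hC.comm _ (C.inv_mem ha) a' ha'C, rfl⟩
    have h1 : a' ^ 2 = a ^ 2 := by
      rw [ha', conj_pow, (hC.sq a ha h hh).eq, mul_inv_cancel_right]
    have h2 : Commute a' e := by
      rcases he with rfl | rfl
      · exact Commute.one_right _
      · exact (hC.commute_w ha'C).symm
    have h3 : (a' * a⁻¹) ^ 2 = e := by
      calc (a' * a⁻¹) ^ 2 = a' * (a⁻¹ * a' * a⁻¹⁻¹ * a'⁻¹) * a' * (a⁻¹ * a⁻¹) := by rw [sq]; group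
        _ = e * (a' ^ 2) * (a ^ 2)⁻¹ := by rw [hea, h2.eq, sq, sq]; group
        _ = e := by rw [h1, mul_inv_cancel_right]
    rw [h3]
    exact he

theorem eps_commute (hC : Crit F w C) {e a : G} (he : e = 1 ∨ e = w) (ha : a ∈ C) :
    Commute e a := by
  rcases he with rfl | rfl
  · exact Commute.one_left _
  · exact hC.commute_w ha

theorem eps_eq_inv (hw : orderOf w = 2) {e : G} (he : e = 1 ∨ e = w) : e * e = 1 := by
  have := eps_sq hw he
  rwa [pow_one, sq] at this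

theorem mem_zpowers_two {y z : G} (hy : y ^ 2 = 1) (hz : z ∈ zpowers y) : z = 1 ∨ z = y := by
  obtain ⟨i, rfl⟩ := mem_zpowers_iff.1 hz
  obtain ⟨j, hj | hj⟩ : ∃ j : ℤ, i = 2 * j ∨ i = 2 * j + 1 := ⟨i / 2, by omega⟩
  · left; rw [hj, zpow_mul, zpow_ofNat, hy, one_zpow]
  · right; rw [hj, zpow_add, zpow_mul, zpow_ofNat, hy, one_zpow, one_mul, zpow_one]

/-- The translates of a moved element. -/
theorem moved_facts (X : Ctx p m G) (hF : Fix m p F w) (hC : Crit F w C) {r h : G} (hr : r ∈ C)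
    (hh : h ∈ F) (hne : ¬ Commute h r) :
    h * r * h⁻¹ ∈ C ∧ ¬ Commute h (h * r * h⁻¹) ∧ ¬ Commute h (r * (h * r * h⁻¹)) := by
  set r1 := h * r * h⁻¹ with hr1
  have hr1C : r1 ∈ C := hC.conj_mem hF hr hh
  refine ⟨hr1C, fun e => hne ?_, fun e => hne ?_⟩
  · have h1 : Commute h (h⁻¹ * r1 * h) :=
      ((Commute.refl h).inv_right.mul_right e).mul_right (Commute.refl h)
    rwa [hr1, show h⁻¹ * (h * r * h⁻¹) * h = r by group] at h1
  · set t := r * r1 with ht
    have htC : t ∈ C := C.mul_mem hr hr1C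
    obtain ⟨eps, he, hea⟩ : ∃ eps, (eps = 1 ∨ eps = w) ∧ t⁻¹ * r * t⁻¹⁻¹ * r⁻¹ = eps :=
      ⟨_, hC.comm _ (C.inv_mem htC) r hr, rfl⟩
    have h1 : r1 * (h * r1 * h⁻¹) = t := by
      calc r1 * (h * r1 * h⁻¹) = h * t * h⁻¹ := by rw [ht, hr1]; group
        _ = t := by rw [e.eq, mul_inv_cancel_right]
    have h2 : h ^ 2 * r * (h ^ 2)⁻¹ = eps * r := by
      calc h ^ 2 * r * (h ^ 2)⁻¹ = h * r1 * h⁻¹ := by rw [hr1, sq]; group
        _ = r1⁻¹ * (r1 * (h * r1 * h⁻¹)) := by group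
        _ = r1⁻¹ * t := by rw [h1]
        _ = t⁻¹ * r * t⁻¹⁻¹ := by rw [ht]; group
        _ = eps * r := by rw [← hea]; group
    refine commute_of_sq X.hp2 (hF.ea.exp h hh)
      (fixed_twist X.hp2 ?_ (Crit.eps_fixed hF he (pow_mem hh 2)) h2 (k := 1) (eps_sq hF.ord he))
    rw [← pow_mul, mul_comm, pow_mul, hF.ea.exp h hh, one_pow]

/-- The translate has the properties of the moved element. -/
theorem translate_props (hF : Fix m p F w) {H : Subgroup G} (hH : H ≤ F) {r h : G} (hh : h ∈ F)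
    (hrH : ∀ x ∈ H, Commute x r) (hrcom : ∀ b ∈ C, Commute h b → Commute r b)
    (hr2 : r ^ 2 = 1 ∨ r ^ 2 = w) :
    (∀ x ∈ H, Commute x (h * r * h⁻¹)) ∧ (∀ b ∈ C, Commute h b → Commute (h * r * h⁻¹) b) ∧
      (h * r * h⁻¹) ^ 2 = r ^ 2 := by
  refine ⟨fun y hy => ?_, fun b hb hhb => ?_, ?_⟩
  · have hyh : Commute y h := hF.ea.comm y (hH hy) h hh
    exact (hyh.mul_right (hrH y hy)).mul_right hyh.inv_right
  · have h1 := (hrcom b hb hhb).map (MulAut.conj h).toMonoidHom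
    have h2 : h * b * h⁻¹ = b := by rw [hhb.eq, mul_inv_cancel_right]
    show h * r * h⁻¹ * b = b * (h * r * h⁻¹)
    calc h * r * h⁻¹ * b = h * r * h⁻¹ * (h * b * h⁻¹) := by rw [h2]
      _ = h * b * h⁻¹ * (h * r * h⁻¹) := h1.eq
      _ = b * (h * r * h⁻¹) := by rw [h2]
  · rw [conj_pow, (Crit.eps_fixed hF hr2 hh).eq, mul_inv_cancel_right]

/-- The square of the product with the translate is the commutator. -/
theorem prod_sq (hF : Fix m p F w) (hC : Crit F w C) {r r1 : G} (hr : r ∈ C) (hr1 : r1 ∈ C)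
    (he : r ^ 2 = 1 ∨ r ^ 2 = w) (hsq : r1 ^ 2 = r ^ 2) :
    ∃ e, (e = 1 ∨ e = w) ∧ r * r1 = e * (r1 * r) ∧ (r * r1) ^ 2 = e := by
  obtain ⟨e, he', hea⟩ : ∃ e, (e = 1 ∨ e = w) ∧ r * r1 * r⁻¹ * r1⁻¹ = e :=
      ⟨_, hC.comm r hr r1 hr1, rfl⟩
  obtain ⟨g, hg, hgea⟩ : ∃ e, (e = 1 ∨ e = w) ∧ r1 * r * r1⁻¹ * r⁻¹ = e :=
      ⟨_, hC.comm r1 hr1 r hr, rfl⟩
  have hge : g = e := by
    have h1 : g = e⁻¹ := by rw [← hea, ← hgea]; group
    rw [h1]
    exact inv_eq_of_mul_eq_one_right (eps_eq_inv hF.ord he')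
  refine ⟨e, he', by rw [← hea]; group, ?_⟩
  have hc : Commute e r := eps_commute hC he' hr
  calc (r * r1) ^ 2 = r * (r1 * r * r1⁻¹ * r⁻¹) * r * r1 * r1 := by rw [sq]; group
    _ = e * (r ^ 2) * (r1 ^ 2) := by rw [hgea, hge, ← hc.eq, sq, sq]; group
    _ = e := by rw [hsq, mul_assoc, eps_eq_inv hF.ord he, mul_one]

theorem inter_card (hF : Fix m p F w) (hm : 3 ≤ m) {H H' : Subgroup G} (hHF : H ≤ F)
    (hH'F : H' ≤ F) (hH : EA p (m - 1) H) (hH' : EA p (m - 1) H') {h : G} (hhH' : h ∈ H')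
    (hhH : h ∉ H) : EA p (m - 2) (H ⊓ H') := by
  have hF' : EA p (m - 1 + 1) F := by rw [show m - 1 + 1 = m by omega]; exact hF.ea
  have hn : H' ≤ normalizer (H : Set G) := fun y hy =>
    centralizer_le_normalizer _
      (mem_centralizer_iff.2 fun q hq => hF.ea.comm q (hHF hq) y (hH'F hy))
  have hc := Basics.card_mul_card_eq_card_sup_mul_card_inf hn
  have htop : H ⊔ H' = F := le_antisymm (sup_le hHF hH'F)
    ((hF'.sup_eq hHF hH (hH'F hhH') hhH) ▸ sup_le le_sup_left (zpowers_le.2 (mem_sup_right hhH')))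
  rw [htop, hH.card, hH'.card, hF.ea.card] at hc
  refine ⟨fun u hu v hv => hH.comm u hu.1 v hv.1, fun u hu => hH.exp u hu.1, ?_⟩
  have h2 : p ^ m * p ^ (m - 2) = p ^ (m - 1) * p ^ (m - 1) := by
    rw [← pow_add, ← pow_add]; congr 1; omega
  exact Nat.eq_of_mul_eq_mul_left (pow_pos hp.out.pos m) (hc.symm.trans h2.symm)

/-- Generation by the centralisers of hyperplanes. -/
theorem exists_component (X : Ctx p m G) (hF : Fix m p F w) (hC : Crit F w C) {d : G} (hd : d ∈ F)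
    (hd1 : d ≠ 1) :
    ∃ H ≤ F, EA p (m - 1) H ∧ d ∉ H ∧ ∃ a ∈ C, (∀ x ∈ H, Commute x a) ∧ ¬ ∀ f ∈ F, Commute f a := by
  haveI : IsMulCommutative F := ⟨⟨fun a b => Subtype.ext (hF.ea.comm a a.2 b b.2)⟩⟩
  by_contra hcon
  push Not at hcon
  apply hd1
  refine hC.faithful d hd fun a ha => ?_
  have hgen := Basics.le_iSup_inf_centralizer_cyclic F C
    (hF.le_cent.trans hC.norm)
    (OrderTriples.pGroup_coprime hp.out Nat.prime_two X.hp2 hF.ea.isPGroup hC.isPGroup)
  refine (mem_cent.1 ((hgen.trans (iSup₂_le fun H hH b hb => mem_cent.2 ?_)) ha))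
  obtain ⟨hHF, x, hx, hHx⟩ := hH
  by_cases hxH : x ∈ H
  · rw [sup_eq_left.2 (zpowers_le.2 hxH)] at hHx
    exact mem_centralizer_iff.1 hb.2 d (hHx ▸ hd)
  by_cases hdH : d ∈ H
  · exact mem_centralizer_iff.1 hb.2 d hdH
  exact hcon H hHF (hF.ea.coatom_card hHF hx hxH hHx).1 hdH b hb.1
    (fun y hy => mem_centralizer_iff.1 hb.2 y hy) d hd

/-- An involution inverting a line: two components are exchanged. -/
theorem swap_false (X : Ctx p m G) (hF : Fix m p F w) {x : G} (hx : orderOf x = 2)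
    (hxw : Commute x w) {L0 : Subgroup G} (hL : L0 ≤ F) (hL0 : EA p (m - 1) L0)
    (hxL : ∀ l ∈ L0, Commute x l) {d : G} (hd : d ∈ F) (hdL : d ∉ L0) (hdx : x * d * x⁻¹ = d⁻¹)
    (hprin : ∀ c ∈ coreIn 2 (centralizer ({w} : Set G)), (∀ l ∈ L0, Commute l c) →
      ∀ f ∈ F, Commute f c) : False := by
  haveI : Fact (2 : ℕ).Prime := ⟨Nat.prime_two⟩
  obtain ⟨C, hC⟩ := X.exists_crit hF
  have hm := X.hm
  have hd1 : d ≠ 1 := fun e => hdL (e ▸ one_mem L0)
  have hF' : EA p (m - 1 + 1) F := by rw [show m - 1 + 1 = m by omega]; exact hF.ea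
  obtain ⟨H, hHF, hH, hdH, a, ha, haH, hane⟩ := exists_component X hF hC hd hd1
  have hFeq : F = L0 ⊔ zpowers d := (hF'.sup_eq hL hL0 hd hdL).symm
  have hnormd : zpowers d ≤ normalizer (L0 : Set G) := by
    rw [zpowers_le]
    exact centralizer_le_normalizer _ (mem_centralizer_iff.2 fun l hl => hF.ea.comm l (hL hl) d hd)
  have hconj : ∀ f ∈ F, ∃ l ∈ L0, ∃ i : ℤ, f = l * d ^ i ∧ x * f * x⁻¹ = l * (d ^ i)⁻¹ := by
    intro f hf
    rw [hFeq] at hf
    obtain ⟨l, hl, q, hq, rfl⟩ := (Basics.mem_sup_of_le_normalizer hnormd).1 hf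
    obtain ⟨i, rfl⟩ := mem_zpowers_iff.1 hq
    refine ⟨l, hl, i, rfl, ?_⟩
    calc x * (l * d ^ i) * x⁻¹ = (x * l) * d ^ i * x⁻¹ := by group
      _ = l * (x * d ^ i * x⁻¹) := by rw [(hxL l hl).eq]; group
      _ = l * (d ^ i)⁻¹ := by rw [← conj_zpow, hdx, inv_zpow]
  have hxinv : x⁻¹ = x := SympHyp.inv_of_orderOf_two hx
  have hx2 : x * x = 1 := by rw [← sq, ← hx, pow_orderOf_eq_one]
  have hsmall : ∀ S : Subgroup G, S ≤ F → d ∉ S → (∀ s ∈ S, x * s * x⁻¹ ∈ S) → S ≤ L0 := by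
    intro S hSF hdS hinv s hs
    obtain ⟨l, hl, i, rfl, he⟩ := hconj s (hSF hs)
    have h2 : (d ^ i) ^ 2 ∈ S := by
      have := S.mul_mem (S.inv_mem (hinv _ hs)) hs
      rw [he] at this
      rwa [show (l * (d ^ i)⁻¹)⁻¹ * (l * d ^ i) = (d ^ i) ^ 2 by rw [sq]; group] at this
    by_cases hdi : d ^ i = 1
    · rw [hdi, mul_one]; exact hl
    exfalso
    apply hdS
    have hdp : d ^ p = 1 := hF.ea.exp d hd
    have hdio : orderOf (d ^ i) = p := orderOf_eq_prime (hF.ea.exp _ (zpow_mem hd i)) hdi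
    obtain ⟨k, hk⟩ := exists_pow_eq_self_of_coprime (x := d ^ i) (n := 2)
      (by rw [hdio]; exact (Nat.coprime_primes Nat.prime_two hp.out).2 (Ne.symm X.hp2))
    have hiS : d ^ i ∈ S := hk ▸ pow_mem h2 k
    have heq : zpowers (d ^ i) = zpowers d := eq_of_le_of_card_ge (zpowers_le.2 (zpow_mem (mem_zpowers d) i))
      (by rw [Nat.card_zpowers, Nat.card_zpowers, hdio,
        OrderTriples.orderOf_prime_of_pow hp.out hdp hd1])
    exact (zpowers_le.2 hiS) (heq ▸ mem_zpowers d)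
  have hxFmem : ∀ f ∈ F, x * f * x⁻¹ ∈ F := by
    intro f hf
    obtain ⟨l, hl, i, rfl, he⟩ := hconj f hf
    rw [he]
    exact F.mul_mem (hL hl) (F.inv_mem (zpow_mem hd i))
  set H' : Subgroup G := H.map (MulAut.conj x).toMonoidHom with hH'def
  have hH'F : H' ≤ F := by
    rintro _ ⟨y, hy, rfl⟩
    exact hxFmem y (hHF hy)
  have hH' : EA p (m - 1) H' := ⟨fun u hu v hv => hF.ea.comm u (hH'F hu) v (hH'F hv),
    fun u hu => hF.ea.exp u (hH'F hu),
    by rw [hH'def, card_map_of_injective (f := (MulAut.conj x).toMonoidHom) (MulAut.conj x).injective,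
      hH.card]⟩
  have hHne : H ≠ H' := by
    intro he
    have hle : H ≤ L0 := hsmall H hHF hdH fun s hs => he.symm ▸ ⟨s, hs, rfl⟩
    have heq : H = L0 := eq_of_le_of_card_ge hle (by rw [hH.card, hL0.card])
    exact hane (hprin a (hC.le ha) fun l hl => haH l (heq ▸ hl))
  obtain ⟨h, hhH', hhH⟩ : ∃ h ∈ H', h ∉ H := by
    by_contra e
    push Not at e
    exact hHne (eq_of_le_of_card_ge e (by rw [hH.card, hH'.card])).symm
  have hhF := hH'F hhH'
  have hHsup : H ⊔ zpowers h = F := hF'.sup_eq hHF hH hhF hhH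
  obtain ⟨r, hrC, hrH, hrh, hrcom, hr2⟩ := exists_moved X hF hC hHF hhF hHsup ha haH hane
  obtain ⟨hr1C, hr1h, hrr1⟩ := moved_facts X hF hC hrC hhF hrh
  obtain ⟨hr1H, hr1com, hr12⟩ := translate_props (C := C) hF hHF hhF hrH hrcom hr2
  set r1 := h * r * h⁻¹ with hr1def
  have hxC : x ∈ normalizer (C : Set G) := hC.norm (mem_cent.2 hxw.symm)
  have hconjC : ∀ t ∈ C, x * t * x⁻¹ ∈ C := fun t ht => (mem_normalizer_iff.1 hxC t).1 ht
  have hconjH' : ∀ t, (∀ y ∈ H, Commute y t) → ∀ y ∈ H', Commute y (x * t * x⁻¹) := by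
    rintro t ht _ ⟨y, hy, rfl⟩
    exact (ht y hy).map (MulAut.conj x).toMonoidHom
  set J : Subgroup G := H ⊓ H' with hJdef
  have hJL : J ≤ L0 := by
    refine hsmall J (inf_le_left.trans hHF) (fun h => hdH h.1) fun s hs => ?_
    obtain ⟨y, hy, hys⟩ := hs.2
    refine ⟨?_, ⟨s, hs.1, rfl⟩⟩
    have h1 : x * s * x⁻¹ = y := by
      rw [← hys]
      show x * (x * y * x⁻¹) * x⁻¹ = y
      rw [hxinv, show x * (x * y * x) * x = (x * x) * y * (x * x) by group, hx2, one_mul, mul_one]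
    rw [h1]
    exact hy
  have hJ : EA p (m - 2) J := inter_card hF hm hHF hH'F hH hH' hhH' hhH
  -- the diagonal elements
  set A : G → G := fun t => t * (x * t * x⁻¹) with hAdef
  have hconjt : ∀ t, x * (x * t * x⁻¹) * x⁻¹ = t := by
    intro t
    rw [hxinv, show x * (x * t * x) * x = (x * x) * t * (x * x) by group, hx2, one_mul, mul_one]
  have hcomx : ∀ t, t ∈ C → (∀ b ∈ C, Commute h b → Commute t b) → ∀ u, (∀ y ∈ H, Commute y u) →
      u ∈ C → Commute t (x * u * x⁻¹) := fun t ht htc u hu huC =>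
    htc _ (hconjC u huC) (hconjH' u hu h hhH')
  have hxA : ∀ t, Commute t (x * t * x⁻¹) → Commute x (A t) := by
    intro t ht
    show x * (t * (x * t * x⁻¹)) = t * (x * t * x⁻¹) * x
    conv_rhs => rw [ht.eq]
    calc x * (t * (x * t * x⁻¹)) = (x * t * x⁻¹) * (x * (x * t * x⁻¹) * x⁻¹) * x := by group
      _ = x * t * x⁻¹ * t * x := by rw [hconjt]
  have hxw' : x * w * x⁻¹ = w := by rw [hxw.eq, mul_inv_cancel_right]
  have hw2 : w ^ 2 = 1 := hF.ord ▸ pow_orderOf_eq_one w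
  have hsq : ∀ t, (∀ y ∈ H, Commute y t) → t ∈ C → Commute t (x * t * x⁻¹) →
      (t ^ 2 = 1 ∨ t ^ 2 = w) → (A t) ^ 2 = 1 := by
    intro t _ _ ht he
    show (t * (x * t * x⁻¹)) ^ 2 = 1
    rw [ht.mul_pow, conj_pow]
    rcases he with e | e <;> rw [e]
    · rw [mul_one, one_mul, mul_inv_cancel]
    · rw [hxw', ← sq, hw2]
  obtain ⟨η, hη, hcomm, hprod⟩ := prod_sq hF hC hrC hr1C hr2 hr12
  have hηη := eps_eq_inv hF.ord hη
  have hr12' : r1 ^ 2 = 1 ∨ r1 ^ 2 = w := by rw [hr12]; exact hr2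
  have hrr1C : r * r1 ∈ C := C.mul_mem hrC hr1C
  have hrr1H : ∀ y ∈ H, Commute y (r * r1) := fun y hy => (hrH y hy).mul_right (hr1H y hy)
  have hrr1com : ∀ b ∈ C, Commute h b → Commute (r * r1) b := fun b hb hhb =>
    (hrcom b hb hhb).mul_left (hr1com b hb hhb)
  have hrr12 : (r * r1) ^ 2 = 1 ∨ (r * r1) ^ 2 = w := by rw [hprod]; exact hη
  set V : Subgroup G := zpowers w ⊔ zpowers x with hV
  have hwx : w ≠ x := fun e => by
    refine SympHyp.ne_inv X.hp2 (OrderTriples.orderOf_prime_of_pow hp.out (hF.ea.exp d hd) hd1) ?_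
    rw [← hdx, ← e, (hF.cent d hd).eq, mul_inv_cancel_right]
  have hxnot : x ∉ zpowers w := fun e => by
    rcases mem_zpowers_two hw2 e with h1 | h1
    · exact OrderTriples.ne_one_of_orderOf Nat.prime_two hx h1
    · exact hwx h1.symm
  have hV4 := OrderTriples.esq_of_pair Nat.prime_two hF.ord hx hxw hxnot
  have hnorm : zpowers x ≤ normalizer ((zpowers w : Subgroup G) : Set G) :=
    zpowers_le.2 (OrderTriples.mem_normalizer_zpowers hxw)
  have hVmem : ∀ y ∈ V, ∃ e, (e = 1 ∨ e = w) ∧ (y = e ∨ y = e * x) := by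
    intro y hy
    obtain ⟨e, he, q, hq, rfl⟩ := (Basics.mem_sup_of_le_normalizer hnorm).1 hy
    refine ⟨e, mem_zpowers_two hw2 he, ?_⟩
    rcases mem_zpowers_two (hx ▸ pow_orderOf_eq_one x) hq with rfl | rfl
    · exact Or.inl (mul_one e)
    · exact Or.inr rfl
  have hAV : ∀ t ∈ C, (∀ y ∈ H, Commute y t) → ¬ Commute h t → A t ∉ V := by
    intro t ht htH htne hmem
    obtain ⟨e, he, h1 | h1⟩ := hVmem _ hmem
    · apply htne
      have h2 : x * t * x⁻¹ = t⁻¹ * e := by rw [← h1]; exact (inv_mul_cancel_left _ _).symm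
      have h3 := hconjH' t htH h hhH'
      rw [h2] at h3
      have h4 := h3.mul_right (Crit.eps_fixed hF he hhF).inv_right
      rw [mul_inv_cancel_right] at h4
      simpa using h4.inv_right
    · have hAC : A t ∈ C := C.mul_mem ht (hconjC t ht)
      have hO := le_normalizer_coreIn 2 (centralizer ({w} : Set G)) (hF.le_cent hd)
      have h2 : d * A t * d⁻¹ * (A t)⁻¹ ∈ coreIn 2 (centralizer ({w} : Set G)) :=
        Subgroup.mul_mem _ ((mem_normalizer_iff.1 hO _).1 (hC.le hAC))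
          (Subgroup.inv_mem _ (hC.le hAC))
      have hde : Commute d e := Crit.eps_fixed hF he hd
      have h3 : d * A t * d⁻¹ * (A t)⁻¹ = d ^ 2 := by
        rw [h1]
        calc d * (e * x) * d⁻¹ * (e * x)⁻¹ = d * e * (x * d * x⁻¹)⁻¹ * e⁻¹ := by group
          _ = d * (e * d * e⁻¹) := by rw [hdx, inv_inv]; group
          _ = d ^ 2 := by rw [← hde.eq, mul_inv_cancel_right, sq]
      rw [h3] at h2
      obtain ⟨k, hk⟩ := coreIn_isPGroup 2 (centralizer ({w} : Set G)) ⟨_, h2⟩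
      have hk' : (d ^ 2) ^ 2 ^ k = 1 := congrArg Subtype.val hk
      rw [← pow_mul, ← pow_succ'] at hk'
      have hdiv := orderOf_dvd_of_pow_eq_one hk'
      rw [OrderTriples.orderOf_prime_of_pow hp.out (hF.ea.exp d hd) hd1] at hdiv
      exact X.hp2 ((Nat.prime_dvd_prime_iff_eq hp.out Nat.prime_two).1
        (hp.out.dvd_of_dvd_pow hdiv))
  have hdiag : ∀ t, t ∈ C → (∀ y ∈ H, Commute y t) → (∀ b ∈ C, Commute h b → Commute t b) →
      (t ^ 2 = 1 ∨ t ^ 2 = w) → ¬ Commute h t →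
      (A t) ^ 2 = 1 ∧ Commute x (A t) ∧ Commute w (A t) ∧ (∀ j ∈ J, Commute (A t) j) ∧ A t ∉ V := by
    intro t ht htH htc he htne
    have hc := hcomx t ht htc t htH ht
    exact ⟨hsq t htH ht hc he, hxA t hc, (hC.commute_w ht).mul_right (hC.commute_w (hconjC t ht)),
      fun j hj => ((htH j hj.1).mul_right (hconjH' t htH j hj.2)).symm, hAV t ht htH htne⟩
  obtain ⟨ha2, hax, haw, haJ, haV⟩ := hdiag r hrC hrH hrcom hr2 hrh
  obtain ⟨hb2, hbx, hbw, hbJ, hbV⟩ := hdiag r1 hr1C hr1H hr1com hr12' hr1h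
  obtain ⟨hc2, -, -, -, hcV⟩ := hdiag (r * r1) hrr1C hrr1H hrr1com hrr12 hrr1
  have c1 : Commute r (x * r1 * x⁻¹) := hcomx r hrC hrcom r1 hr1H hr1C
  have c2 : Commute r1 (x * r * x⁻¹) := hcomx r1 hr1C hr1com r hrH hrC
  have hmul : A r * A r1 = A (r * r1) := by
    show r * (x * r * x⁻¹) * (r1 * (x * r1 * x⁻¹)) = r * r1 * (x * (r * r1) * x⁻¹)
    calc r * (x * r * x⁻¹) * (r1 * (x * r1 * x⁻¹))
        = r * ((x * r * x⁻¹) * r1) * (x * r1 * x⁻¹) := by group
      _ = r * r1 * (x * (r * r1) * x⁻¹) := by rw [← c2.eq]; group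
  have hab : Commute (A r) (A r1) := by
    have hexη : Commute x η := by
      rcases hη with h1 | h1 <;> rw [h1]
      · exact Commute.one_right x
      · exact hxw
    have hηr : ∀ t ∈ C, Commute η t := fun t ht => eps_commute hC hη ht
    show A r * A r1 = A r1 * A r
    rw [hmul]
    show r * r1 * (x * (r * r1) * x⁻¹) = r1 * (x * r1 * x⁻¹) * (r * (x * r * x⁻¹))
    calc r * r1 * (x * (r * r1) * x⁻¹) = η * (r1 * r) * (x * η * (r1 * r) * x⁻¹) := by
          rw [hcomm]; group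
      _ = η * (r1 * r * η) * (x * (r1 * r) * x⁻¹) := by rw [hexη.eq]; group
      _ = η * η * (r1 * r) * (x * r1 * x⁻¹ * (x * r * x⁻¹)) := by
          rw [← (hηr _ (C.mul_mem hr1C hrC)).eq]; group
      _ = r1 * (r * (x * r1 * x⁻¹)) * (x * r * x⁻¹) := by rw [hηη, one_mul]; group
      _ = r1 * (x * r1 * x⁻¹) * (r * (x * r * x⁻¹)) := by rw [c1.eq]; group
  have hVea : EA 2 2 V := ⟨hV4.comm, hV4.exp, hV4.card⟩
  have hcV' : ∀ {z : G}, Commute z w → Commute z x → ∀ y ∈ V, Commute z y := fun {z} h1 h2 y hy =>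
    mem_cent.1 ((sup_le (zpowers_le.2 (mem_cent.2 h1)) (zpowers_le.2 (mem_cent.2 h2)) :
      V ≤ centralizer ({z} : Set G)) hy)
  have haord : orderOf (A r) = 2 :=
    OrderTriples.orderOf_prime_of_pow Nat.prime_two ha2 fun e => haV (e ▸ one_mem V)
  have hbord : orderOf (A r1) = 2 :=
    OrderTriples.orderOf_prime_of_pow Nat.prime_two hb2 fun e => hbV (e ▸ one_mem V)
  have hW3 := hVea.extend haord (hcV' haw.symm hax.symm) haV
  have hbW : A r1 ∉ V ⊔ zpowers (A r) := by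
    intro hmem
    have hn : zpowers (A r) ≤ normalizer (V : Set G) := zpowers_le.2
      (centralizer_le_normalizer _
        (mem_centralizer_iff.2 fun y hy => ((hcV' haw.symm hax.symm) y hy).eq.symm))
    obtain ⟨y, hy, q, hq, he⟩ := (Basics.mem_sup_of_le_normalizer hn).1 hmem
    rcases mem_zpowers_two ha2 hq with rfl | rfl
    · exact hbV (by rw [he, mul_one]; exact hy)
    · refine hcV ?_
      rw [← hmul, he, ← mul_assoc, (hcV' haw.symm hax.symm y hy).eq, mul_assoc, ← sq, ha2, mul_one]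
      exact hy
  have hW4 := hW3.extend hbord (fun z hz => mem_cent.1
    ((sup_le (fun y hy => mem_cent.2 (hcV' hbw.symm hbx.symm y hy))
      (zpowers_le.2 (mem_cent.2 hab.symm)) : V ⊔ zpowers (A r) ≤ centralizer ({A r1} : Set G)) hz))
    hbW
  set W : Subgroup G := V ⊔ zpowers (A r) ⊔ zpowers (A r1) with hWdef
  have hWJ : ∀ z ∈ W, ∀ j ∈ J, Commute z j := by
    intro z hz j hj
    have hle : W ≤ centralizer ({j} : Set G) := sup_le (sup_le (sup_le
      (zpowers_le.2 (mem_cent.2 (hF.cent j (hHF hj.1)).symm))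
      (zpowers_le.2 (mem_cent.2 (hxL j (hJL hj)).symm)))
      (zpowers_le.2 (mem_cent.2 (haJ j hj).symm))) (zpowers_le.2 (mem_cent.2 (hbJ j hj).symm))
    exact (mem_cent.1 (hle hz)).symm
  obtain ⟨K, hKW, d0, hcard, hd0, hd0J, hd0c, hd0K⟩ :=
    up X.hp2 hJ (X.goodEA hJ (by omega)) hW4 (by omega) hWJ
  rw [hW4.card] at hcard
  have hB := hJ.extend hd0 hd0c hd0J
  exact SympHyp.no_eight X.hp2 X.bound (X.goodEA hB (by omega)) (m := m - 2 + 1) (by omega)
    hB.comm hB.exp hB.card (W := K) (fun u hu v hv => hW4.comm u (hKW hu) v (hKW hv))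
    (fun u hu => hW4.exp u (hKW hu)) (by omega)
    (fun k hk b hb => (fixed_of_sup (fun a ha => (hWJ k (hKW hk) a ha).symm) (hd0K k hk) b hb).symm)

/-- No two commuting involutions are centralised by a group of rank `m - 1`. -/
theorem four_false (X : Ctx p m G) {B : Subgroup G} (hB : EA p (m - 1) B) {a b : G}
    (ha : orderOf a = 2) (hb : orderOf b = 2) (hab : a ≠ b) (hc : Commute a b)
    (haB : ∀ x ∈ B, Commute a x) (hbB : ∀ x ∈ B, Commute b x) : False := by
  haveI : Fact (2 : ℕ).Prime := ⟨Nat.prime_two⟩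
  have hm := X.hm
  set C := centralizer (B : Set G) with hCdef
  set Q := coreIn p C with hQdef
  have hQp : IsPGroup p Q := coreIn_isPGroup p C
  have hbn : b ∉ zpowers a := fun e => by
    rcases mem_zpowers_two (ha ▸ pow_orderOf_eq_one a) e with h1 | h1
    · exact OrderTriples.ne_one_of_orderOf Nat.prime_two hb h1
    · exact hab h1.symm
  have hW := OrderTriples.esq_of_pair Nat.prime_two ha hb hc.symm hbn
  set W := zpowers a ⊔ zpowers b with hWdef
  haveI : IsMulCommutative W := ⟨⟨fun x y => Subtype.ext (hW.comm x x.2 y y.2)⟩⟩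
  have hWC : W ≤ C := sup_le (zpowers_le.2 (mem_centralizer_iff.2 fun x hx => (haB x hx).eq.symm))
    (zpowers_le.2 (mem_centralizer_iff.2 fun x hx => (hbB x hx).eq.symm))
  have haW : a ∈ W := mem_sup_left (mem_zpowers a)
  apply SympHyp.not_cent_core X.hp2 (X.goodEA hB (by omega)) ha haB
  intro q hq
  have hgen := Basics.iSup_inf_centralizer_eq W Q (hW.not_cyclic Nat.prime_two)
    (hWC.trans (le_normalizer_coreIn p C))
    (OrderTriples.pGroup_coprime Nat.prime_two hp.out (Ne.symm X.hp2) hW.isPGroup hQp)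
  refine mem_cent.1 ((hgen.ge.trans (iSup₂_le fun k hk q hq => mem_cent.2 ?_)) hq)
  obtain ⟨hkW, hk1⟩ := hk
  by_contra hne
  have hko : orderOf k = 2 := OrderTriples.orderOf_prime_of_pow Nat.prime_two (hW.exp k hkW) hk1
  have hak : Commute a k := hW.comm a haW k hkW
  obtain ⟨d, hd, hdo, hdinv⟩ := SympHyp.exists_inverted (hQp.to_le inf_le_left) ha
    (OrderTriples.mem_normalizer_inf_cent (le_normalizer_coreIn p C (hWC haW)) hak)
    fun h => hne (h q hq)
  have hdB : ∀ x ∈ B, Commute d x :=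
    fun x hx => (mem_centralizer_iff.1 (coreIn_le p C hd.1) x hx).symm
  have hdn : d ∉ B := fun h => SympHyp.ne_inv X.hp2 hdo
    (by rw [← hdinv, (haB d h).eq, mul_inv_cancel_right])
  have hkd : Commute k d := mem_cent.1 hd.2
  have hkB : ∀ x ∈ B, Commute k x :=
    fun x hx => (mem_centralizer_iff.1 (hWC hkW) x hx).symm
  have hF' := hB.extend hdo hdB hdn
  rw [show m - 1 + 1 = m by omega] at hF'
  have hFix : Fix m p (B ⊔ zpowers d) k :=
    ⟨hF', hko, fun x hx => (fixed_of_sup (fun y hy => (hkB y hy).symm) hkd.symm x hx).symm⟩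
  refine swap_false X hFix ha hak le_sup_left hB haB (mem_sup_right (mem_zpowers d)) hdn hdinv ?_
  intro c hcO hcB
  have hcC : c ∈ C := mem_centralizer_iff.2 fun x hx => (hcB x hx).eq
  set P := Q ⊓ centralizer ({k} : Set G) with hP
  set S := coreIn 2 (centralizer ({k} : Set G)) ⊓ C with hS
  have hSP : S ≤ normalizer (P : Set G) := fun y hy => OrderTriples.mem_normalizer_inf_cent
    (le_normalizer_coreIn p C hy.2) (mem_cent.1 (coreIn_le 2 _ hy.1)).symm
  have hPS : P ≤ normalizer (S : Set G) := fun y hy => OrderTriples.mem_normalizer_inf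
    (le_normalizer_coreIn 2 _ hy.2) (le_normalizer (coreIn_le p C hy.1))
  exact fixed_of_sup hcB (OrderTriples.commute_of_normalize_disjoint hPS hSP
    (OrderTriples.pGroup_disjoint hp.out Nat.prime_two X.hp2 (hQp.to_le inf_le_left)
      ((coreIn_isPGroup 2 _).to_le inf_le_left)) hd ⟨hcO, hcC⟩)

/-- A moved element of quaternion type. -/
theorem exists_quat (X : Ctx p m G) (hF : Fix m p F w) (hC : Crit F w C) {H : Subgroup G}
    (hHF : H ≤ F) (hH : EA p (m - 1) H) {h a : G} (hh : h ∈ F) (hhH : h ∉ H) (ha : a ∈ C)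
    (haH : ∀ x ∈ H, Commute x a) (hane : ¬ ∀ f ∈ F, Commute f a) :
    ∃ r r1, r ∈ C ∧ r1 ∈ C ∧ h * r * h⁻¹ = r1 ∧
      (∀ x ∈ H, Commute x r) ∧ (∀ x ∈ H, Commute x r1) ∧
      (∀ b ∈ C, Commute h b → Commute r b) ∧ (∀ b ∈ C, Commute h b → Commute r1 b) ∧
      ¬ Commute h r ∧ ¬ Commute h r1 ∧ r ^ 2 = w ∧ r1 ^ 2 = w ∧ r * r1 = w * (r1 * r) := by
  have hm := X.hm
  have hF' : EA p (m - 1 + 1) F := by rw [show m - 1 + 1 = m by omega]; exact hF.ea
  obtain ⟨r, hrC, hrH, hrh, hrcom, hr2⟩ :=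
    exists_moved X hF hC hHF hh (hF'.sup_eq hHF hH hh hhH) ha haH hane
  obtain ⟨hr1C, hr1h, hrr1⟩ := moved_facts X hF hC hrC hh hrh
  obtain ⟨hr1H, hr1com, hr12⟩ := translate_props (C := C) hF hHF hh hrH hrcom hr2
  obtain ⟨η, hη, hcomm, hprod⟩ := prod_sq hF hC hrC hr1C hr2 hr12
  have kill : ∀ t ∈ C, (∀ x ∈ H, Commute x t) → ¬ Commute h t → t ^ 2 ≠ 1 := by
    intro t ht htH htne ht2
    have ht1 : t ≠ 1 := fun e => htne (e ▸ Commute.one_right h)
    have htw : t ≠ w := fun e => htne (e ▸ (hF.cent h hh).symm)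
    exact four_false X hH (OrderTriples.orderOf_prime_of_pow Nat.prime_two ht2 ht1) hF.ord htw
      (hC.commute_w ht).symm (fun x hx => (htH x hx).symm) (fun x hx => hF.cent x (hHF hx))
  have hrw : r ^ 2 = w := hr2.resolve_left (kill r hrC hrH hrh)
  have hηw : η = w := hη.resolve_left fun e =>
    kill (r * (h * r * h⁻¹)) (C.mul_mem hrC hr1C) (fun x hx => (hrH x hx).mul_right (hr1H x hx))
      hrr1 (hprod.trans e)
  exact ⟨r, _, hrC, hr1C, rfl, hrH, hr1H, hrcom, hr1com, hrh, hr1h, hrw, hr12.trans hrw,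
    hηw ▸ hcomm⟩

/-- There is no involution centralised by a group of rank `m`. -/
theorem fix_false (X : Ctx p m G) (hF : Fix m p F w) : False := by
  haveI : Fact (2 : ℕ).Prime := ⟨Nat.prime_two⟩
  have hm := X.hm
  obtain ⟨C, hC⟩ := X.exists_crit hF
  obtain ⟨d, hd, hdo⟩ := OrderTriples.exists_orderOf hp.out hF.ea.isPGroup (hF.ea.ne_bot (by omega))
  obtain ⟨H1, hH1F, hH1, -, a1, ha1, ha1H, ha1ne⟩ :=
    exists_component X hF hC hd (OrderTriples.ne_one_of_orderOf hp.out hdo)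
  obtain ⟨k, hk1, hko⟩ := OrderTriples.exists_orderOf hp.out hH1.isPGroup (hH1.ne_bot (by omega))
  have hkF := hH1F hk1
  obtain ⟨H2, hH2F, hH2, hk2, a2, ha2, ha2H, ha2ne⟩ :=
    exists_component X hF hC hkF (OrderTriples.ne_one_of_orderOf hp.out hko)
  obtain ⟨h, hh2, hh1⟩ : ∃ h ∈ H2, h ∉ H1 := by
    by_contra e
    push Not at e
    exact hk2 ((eq_of_le_of_card_ge e (by rw [hH1.card, hH2.card])).symm ▸ hk1)
  have hhF := hH2F hh2
  obtain ⟨r, r1, hr, hr1, hrr1, hrH, hr1H, hrc, hr1c, hrne, hr1ne, hr2, hr12, hrcomm⟩ :=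
    exists_quat X hF hC hH1F hH1 hhF hh1 ha1 ha1H ha1ne
  obtain ⟨s, s1, hs, hs1, -, hsH, hs1H, -, -, -, -, hs2, hs12, hscomm⟩ :=
    exists_quat X hF hC hH2F hH2 hkF hk2 ha2 ha2H ha2ne
  have hrs : Commute r s := hrc s hs (hsH h hh2)
  have hrs1 : Commute r s1 := hrc s1 hs1 (hs1H h hh2)
  have hr1s : Commute r1 s := hr1c s hs (hsH h hh2)
  have hr1s1 : Commute r1 s1 := hr1c s1 hs1 (hs1H h hh2)
  have hw2 : w ^ 2 = 1 := hF.ord ▸ pow_orderOf_eq_one w
  have hww : w * w = 1 := by rw [← sq, hw2]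
  set J := H1 ⊓ H2 with hJdef
  have hJ : EA p (m - 2) J := inter_card hF hm hH1F hH2F hH1 hH2 hh2 hh1
  have hinv : ∀ u v, u ∈ C → v ∈ C → (∀ x ∈ H2, Commute x v) → ¬ Commute h u → Commute u v →
      u ^ 2 = w → v ^ 2 = w → (u * v) ^ 2 = 1 ∧ u * v ∉ zpowers w := by
    intro u v hu hv hvH hune hc h1 h2
    refine ⟨by rw [hc.mul_pow, h1, h2, hww], fun hmem => hune ?_⟩
    have he := mem_zpowers_two hw2 hmem
    have h3 := (Crit.eps_fixed hF he hhF).mul_right (hvH h hh2).inv_right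
    rwa [mul_inv_cancel_right] at h3
  obtain ⟨ha2', haw⟩ := hinv r s hr hs hsH hrne hrs hr2 hs2
  obtain ⟨hb2', hbw⟩ := hinv r1 s1 hr1 hs1 hs1H hr1ne hr1s1 hr12 hs12
  set a := r * s with hadef
  set b := r1 * s1 with hbdef
  have haC : a ∈ C := C.mul_mem hr hs
  have hbC : b ∈ C := C.mul_mem hr1 hs1
  have hwea : EA 2 1 (zpowers w) := ⟨fun u hu v hv => by
      obtain ⟨i, rfl⟩ := mem_zpowers_iff.1 hu
      obtain ⟨j, rfl⟩ := mem_zpowers_iff.1 hv
      exact Commute.zpow_zpow_self w i j,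
    fun u hu => by
      rcases mem_zpowers_two hw2 hu with rfl | rfl
      · exact one_pow 2
      · exact hw2,
    by rw [Nat.card_zpowers, hF.ord, pow_one]⟩
  have haord : orderOf a = 2 :=
    OrderTriples.orderOf_prime_of_pow Nat.prime_two ha2' fun e => haw (e ▸ one_mem _)
  have hbord : orderOf b = 2 :=
    OrderTriples.orderOf_prime_of_pow Nat.prime_two hb2' fun e => hbw (e ▸ one_mem _)
  have hwcomm : ∀ z ∈ C, ∀ u ∈ zpowers w, Commute z u := fun z hz u hu =>
    (eps_commute hC (mem_zpowers_two hw2 hu) hz).symm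
  have hW2 := hwea.extend haord (hwcomm a haC) haw
  have hab : Commute a b := by
    have hwr : ∀ z ∈ C, Commute w z := fun z hz => hC.commute_w hz
    show r * s * (r1 * s1) = r1 * s1 * (r * s)
    calc r * s * (r1 * s1) = r * (s * r1) * s1 := by group
      _ = (r * r1) * (s * s1) := by rw [← hr1s.eq]; group
      _ = w * (r1 * r * w) * (s1 * s) := by rw [hrcomm, hscomm]; group
      _ = w * w * (r1 * r) * (s1 * s) := by rw [← (hwr _ (C.mul_mem hr1 hr)).eq]; group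
      _ = r1 * (r * s1) * s := by rw [hww, one_mul]; group
      _ = r1 * s1 * (r * s) := by rw [hrs1.eq]; group
  have hbW : b ∉ zpowers w ⊔ zpowers a := by
    intro hmem
    have hn : zpowers a ≤ normalizer ((zpowers w : Subgroup G) : Set G) :=
      zpowers_le.2 (OrderTriples.mem_normalizer_zpowers (hC.commute_w haC).symm)
    obtain ⟨e, he, q, hq, heq⟩ := (Basics.mem_sup_of_le_normalizer hn).1 hmem
    rcases mem_zpowers_two ha2' hq with rfl | rfl
    · exact hbw (by rw [heq, mul_one]; exact he)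
    · apply hrne
      have he' := mem_zpowers_two hw2 he
      set c := r⁻¹ * r1 with hc
      have h1 : c = e * (s * s1⁻¹) := by
        have h2 : r1 = e * a * s1⁻¹ := by rw [← heq, hbdef, mul_inv_cancel_right]
        rw [hc, h2, hadef]
        calc r⁻¹ * (e * (r * s) * s1⁻¹) = r⁻¹ * (e * r) * (s * s1⁻¹) := by group
          _ = e * (s * s1⁻¹) := by rw [(eps_commute hC he' hr).eq, inv_mul_cancel_left]
      have hcC : c ∈ C := C.mul_mem (C.inv_mem hr) hr1
      have hhc : Commute h c := h1 ▸ (Crit.eps_fixed hF he' hhF).mul_right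
        ((hsH h hh2).mul_right (hs1H h hh2).inv_right)
      obtain ⟨n, hn⟩ := hC.isPGroup ⟨c, hcC⟩
      refine fixed_twist X.hp2 (hF.ea.exp h hhF) hhc ?_ (congrArg Subtype.val hn)
      rw [hrr1, ← (hrc c hcC hhc).eq, hc, mul_inv_cancel_left]
  have hW3 := hW2.extend hbord (fun z hz => mem_cent.1
    ((sup_le (fun y hy => mem_cent.2 (hwcomm b hbC y hy))
      (zpowers_le.2 (mem_cent.2 hab.symm)) : zpowers w ⊔ zpowers a ≤ centralizer ({b} : Set G)) hz))
    hbW
  set W := zpowers w ⊔ zpowers a ⊔ zpowers b with hWdef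
  have hWJ : ∀ z ∈ W, ∀ j ∈ J, Commute z j := by
    intro z hz j hj
    have hle : W ≤ centralizer ({j} : Set G) := sup_le (sup_le
      (zpowers_le.2 (mem_cent.2 (hF.cent j (hH1F hj.1)).symm))
      (zpowers_le.2 (mem_cent.2 ((hrH j hj.1).mul_right (hsH j hj.2)))))
      (zpowers_le.2 (mem_cent.2 ((hr1H j hj.1).mul_right (hs1H j hj.2))))
    exact (mem_cent.1 (hle hz)).symm
  obtain ⟨K, hKW, d0, hcard, hd0, hd0J, hd0c, hd0K⟩ :=
    up X.hp2 hJ (X.goodEA hJ (by omega)) hW3 (by omega) hWJ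
  rw [hW3.card] at hcard
  have hB := hJ.extend hd0 hd0c hd0J
  rw [show m - 2 + 1 = m - 1 by omega] at hB
  obtain ⟨i, -, hK⟩ := hW3.sub hKW
  obtain ⟨u, hu, huo⟩ := OrderTriples.exists_orderOf Nat.prime_two hK.isPGroup
    (fun e => by rw [e, card_bot] at hcard; omega)
  obtain ⟨v, hv, hvu⟩ : ∃ v ∈ K, v ∉ zpowers u := by
    by_contra e
    push Not at e
    have := card_le_of_le (e : K ≤ zpowers u)
    rw [Nat.card_zpowers, huo] at this
    omega
  have hvo := OrderTriples.orderOf_prime_of_pow Nat.prime_two (hK.exp v hv)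
    (fun e => hvu (e ▸ one_mem _))
  have hKB : ∀ z ∈ K, ∀ x ∈ J ⊔ zpowers d0, Commute z x := fun z hz x hx =>
    (fixed_of_sup (fun a ha => (hWJ z (hKW hz) a ha).symm) (hd0K z hz) x hx).symm
  exact four_false X hB huo hvo (fun e => hvu (e ▸ mem_zpowers u)) (hK.comm u hu v hv)
    (hKB u hu) (hKB v hv)

omit hp in
/-- Self-centralising core, seen in the ambient group. -/
theorem core_ambient (q : ℕ) (L : Subgroup G)
    (h : centralizer (Cfsg.pCore q L : Set L) ≤ Cfsg.pCore q L) :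
    L ⊓ centralizer (coreIn q L : Set G) ≤ coreIn q L := by
  rintro x ⟨hx, hxc⟩
  refine ⟨⟨x, hx⟩, h ?_, rfl⟩
  rw [mem_centralizer_iff]
  intro z hz
  exact Subtype.ext (mem_centralizer_iff.1 hxc z ⟨z, hz, rfl⟩)

theorem good_of_localChar (hG : Cfsg.IsOfLocalCharacteristic p G) {A : Subgroup G}
    (hA : IsPGroup p A) (hne : A ≠ ⊥) : Good p A := by
  set N := normalizer (A : Set G) with hNdef
  have hN := core_ambient p N (hG.2 A hA hne)
  set C := centralizer (A : Set G) with hCdef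
  set Q := coreIn p C with hQdef
  set P := coreIn p N with hPdef
  set D := C ⊓ centralizer (Q : Set G) with hDdef
  have hCD : C ≤ normalizer (D : Set G) := by
    intro g hg
    refine OrderTriples.mem_normalizer_inf (le_normalizer hg) ?_
    have key : ∀ g ∈ C, ∀ x ∈ centralizer (Q : Set G), g * x * g⁻¹ ∈ centralizer (Q : Set G) :=
      fun g hg x hx => OrderTriples.conj_mem_cent hx (le_normalizer_coreIn p C hg)
    rw [mem_normalizer_iff]
    refine fun x => ⟨key g hg x, fun h => ?_⟩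
    have := key g⁻¹ (inv_mem hg) _ h
    simpa [mul_assoc] using this
  show D ≤ Q
  refine OrderTriples.le_coreIn inf_le_left hCD ?_
  refine IsPGroup.of_card (n := (Nat.card D).primeFactorsList.length)
    (Nat.eq_prime_pow_of_unique_prime_dvd Nat.card_pos.ne' fun {q} hq hqd => ?_)
  haveI : Fact q.Prime := ⟨hq⟩
  obtain ⟨⟨y, hy⟩, hyo⟩ := exists_prime_orderOf_dvd_card' q hqd
  rw [Subgroup.orderOf_mk] at hyo
  by_contra hqp
  have hCN : C ≤ N := centralizer_le_normalizer _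
  have hPC : P ⊓ C ≤ Q := OrderTriples.le_coreIn inf_le_right
    (fun g hg => OrderTriples.mem_normalizer_inf (le_normalizer_coreIn p N (hCN hg))
      (le_normalizer hg))
    ((coreIn_isPGroup p N).to_le inf_le_left)
  have hcent : ∀ a ∈ P, Commute y a :=
    ClassK.axb_lemma hA (coreIn_isPGroup p N) (Subgroup.le_normalizer.trans (le_normalizer_coreIn p N))
      (le_normalizer_coreIn p N (hCN hy.1)) (hyo ▸ (Nat.coprime_primes hq hp.out).2 hqp)
      (fun u hu a _ => by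
        rw [← (show Commute u y from mem_centralizer_iff.1 hy.1 u hu).eq,
          mul_inv_cancel_right, mul_inv_cancel]
        exact Commute.one_left a)
      (fun a ha hau => (mem_centralizer_iff.1 hy.2 a
        (hPC ⟨ha, mem_centralizer_iff.2 fun u hu => (hau u hu).eq⟩)).symm)
  have hyP : y ∈ P := hN ⟨hCN hy.1, mem_centralizer_iff.2 fun a ha => (hcent a ha).eq.symm⟩
  exact hqp ((OrderTriples.primes_pGroup hp.out (coreIn_isPGroup p N) q hq
    (hyo ▸ orderOf_dvd_natCard P hyP)))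

omit hp in
theorem char2_of_type (hG : Cfsg.IsCharacteristicTwoType G) {w : G} (hw : orderOf w = 2) :
    centralizer ({w} : Set G) ⊓ centralizer (coreIn 2 (centralizer ({w} : Set G)) : Set G) ≤
      coreIn 2 (centralizer ({w} : Set G)) := by
  have hw2 : w ^ 2 = 1 := hw ▸ pow_orderOf_eq_one w
  have hne : zpowers w ≠ ⊥ := fun e => OrderTriples.ne_one_of_orderOf Nat.prime_two hw
    (mem_bot.1 (e ▸ mem_zpowers w))
  have heq : normalizer ((zpowers w : Subgroup G) : Set G) = centralizer ({w} : Set G) := by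
    ext x
    refine ⟨fun hx => mem_cent.2 ?_, fun hx =>
      OrderTriples.mem_normalizer_zpowers (mem_cent.1 hx).symm⟩
    rcases mem_zpowers_two hw2 ((mem_normalizer_iff.1 hx w).1 (mem_zpowers w)) with h | h
    · exact absurd (conj_eq_one_iff.1 h) (OrderTriples.ne_one_of_orderOf Nat.prime_two hw)
    · exact (mul_inv_eq_iff_eq_mul.1 h).symm
  have h := core_ambient 2 _ (hG.2 (zpowers w) (OrderTriples.isPGroup_zpowers hw2) hne)
  rwa [heq] at h

/-- A group of rank three normalising a `2`-group gives one centralising an involution. -/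
theorem exists_fix (hp2 : p ≠ 2) (hgood : ∀ A : Subgroup G, IsPGroup p A → A ≠ ⊥ → Good p A)
    {E T : Subgroup G} (hE : EA p 3 E) (hT : IsPGroup 2 T) (hTne : T ≠ ⊥)
    (hET : E ≤ normalizer (T : Set G)) : ∃ F w, Fix 3 p F (w : G) := by
  haveI : Fact (2 : ℕ).Prime := ⟨Nat.prime_two⟩
  by_cases hS : T ⊓ centralizer (E : Set G) = ⊥
  swap
  · obtain ⟨w, hw, hwo⟩ := OrderTriples.exists_orderOf Nat.prime_two (hT.to_le inf_le_left) hS
    exact ⟨E, w, hE, hwo, fun x hx => (mem_centralizer_iff.1 hw.2 x hx).symm⟩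
  haveI : IsMulCommutative E := ⟨⟨fun a b => Subtype.ext (hE.comm a a.2 b b.2)⟩⟩
  obtain ⟨B, hBE, hB, hRne⟩ : ∃ B ≤ E, EA p 2 B ∧ T ⊓ centralizer (B : Set G) ≠ ⊥ := by
    by_contra hcon
    push Not at hcon
    apply hTne
    rw [← le_bot_iff]
    refine (Basics.le_iSup_inf_centralizer_cyclic E T hET
      (OrderTriples.pGroup_coprime hp.out Nat.prime_two hp2 hE.isPGroup hT)).trans
      (iSup₂_le fun B hB => ?_)
    obtain ⟨hBE, x, hx, hBx⟩ := hB
    by_cases hxB : x ∈ B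
    · rw [sup_eq_left.2 (zpowers_le.2 hxB)] at hBx
      rw [hBx]
      exact hS.le
    · exact (hcon B hBE (hE.coatom_card hBE hx hxB hBx).1).le
  set R := T ⊓ centralizer (B : Set G) with hR
  have hRp : IsPGroup 2 R := hT.to_le inf_le_left
  set U := OrderTriples.zOmega 2 R with hU
  have hER : E ≤ normalizer (R : Set G) := fun e he => OrderTriples.mem_normalizer_inf (hET he)
    (le_normalizer (mem_centralizer_iff.2 fun b hb => (hE.comm b (hBE hb) e he).eq))
  have hEU : E ≤ normalizer (U : Set G) := hER.trans (OrderTriples.normalizer_le_zOmega 2 R)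
  have hUne : U ≠ ⊥ := OrderTriples.zOmega_ne_bot Nat.prime_two hRp hRne
  obtain ⟨i, hi⟩ := IsPGroup.iff_card.1 (OrderTriples.isPGroup_zOmega hRp : IsPGroup 2 U)
  have hUea : EA 2 i U := ⟨fun x hx y hy => hy.2.2 x hx.1, fun x hx => hx.2.1, hi⟩
  obtain ⟨u, hu, huo⟩ := OrderTriples.exists_orderOf Nat.prime_two hUea.isPGroup hUne
  have h4 : 4 ≤ Nat.card U := by
    by_contra hlt
    have hle : Nat.card U ≤ Nat.card (zpowers u) := by
      rw [Nat.card_zpowers, huo, hi]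
      rw [hi] at hlt
      have h2 : i < 2 := (Nat.pow_lt_pow_iff_right one_lt_two).1 (not_le.1 hlt : 2 ^ i < 2 ^ 2)
      interval_cases i <;> norm_num
    have heq : zpowers u = U := eq_of_le_of_card_ge (zpowers_le.2 hu) hle
    have hmem : u ∈ T ⊓ centralizer (E : Set G) := by
      refine ⟨hu.1.1, mem_centralizer_iff.2 fun e he => ?_⟩
      have h := (mem_normalizer_iff.1 (hEU he) u).1 hu
      rw [← heq] at h
      rcases mem_zpowers_two (huo ▸ pow_orderOf_eq_one u) h with h1 | h1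
      · exact absurd (conj_eq_one_iff.1 h1) (OrderTriples.ne_one_of_orderOf Nat.prime_two huo)
      · exact mul_inv_eq_iff_eq_mul.1 h1
    rw [hS, mem_bot] at hmem
    exact OrderTriples.ne_one_of_orderOf Nat.prime_two huo hmem
  have hi1 : 1 ≤ i := by
    by_contra h
    rw [hi, show i = 0 by omega] at h4
    omega
  have hUB : ∀ x ∈ U, ∀ b ∈ B, Commute x b :=
    fun x hx b hb => (mem_centralizer_iff.1 hx.1.2 b hb).symm
  obtain ⟨K, hKU, d, hcard, hd, hdB, hdc, hdK⟩ :=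
    up hp2 hB (hgood B hB.isPGroup (hB.ne_bot (by omega))) hUea hi1 hUB
  obtain ⟨k, hk, hko⟩ := OrderTriples.exists_orderOf Nat.prime_two (hUea.isPGroup.to_le hKU)
    (fun e => by rw [e, card_bot] at hcard; omega)
  exact ⟨B ⊔ zpowers d, k, hB.extend hd hdc hdB, hko, fun x hx =>
    (fixed_of_sup (fun b hb => (hUB k (hKU hk) b hb).symm) (hdK k hk) x hx).symm⟩

/-- Klinger and Mason: the `2`-local `p`-rank is at most two. -/
theorem twoLocalPRankLE (hp2 : p ≠ 2) (hGp : Cfsg.IsOfLocalCharacteristic p G)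
    (hG2 : Cfsg.IsCharacteristicTwoType G) : Cfsg.TwoLocalPRankLE p 2 G := by
  rintro H ⟨T, hT, hTne, rfl⟩ A hA hexp
  by_contra hcard
  haveI := hA
  set A' := A.map (normalizer (T : Set G)).subtype with hA'
  have hcA : Nat.card A' = Nat.card A := card_map_of_injective (subtype_injective _)
  have hA'c : ∀ x ∈ A', ∀ y ∈ A', Commute x y := by
    rintro _ ⟨x, hx, rfl⟩ _ ⟨y, hy, rfl⟩
    exact congrArg (fun z => ((z : A) : normalizer (T : Set G)).1) (mul_comm' (⟨x, hx⟩ : A) ⟨y, hy⟩)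
  have hA'e : ∀ x ∈ A', x ^ p = 1 := by
    rintro _ ⟨x, hx, rfl⟩
    rw [← map_pow, hexp x hx, map_one]
  obtain ⟨n, hn⟩ := IsPGroup.iff_card.1 (show IsPGroup p A' from fun x =>
    ⟨1, Subtype.ext (by rw [pow_one]; exact hA'e x x.2)⟩)
  have hn3 : 3 ≤ n := by
    rw [← hcA, hn, not_le] at hcard
    exact (Nat.pow_lt_pow_iff_right hp.out.one_lt).1 hcard
  obtain ⟨E0, hE0⟩ := Sylow.exists_subgroup_card_pow_prime (G := A') p (n := 3)
    (hn ▸ pow_dvd_pow p hn3)
  have hE : EA p 3 (E0.map A'.subtype) :=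
    ⟨fun x hx y hy => hA'c x (map_subtype_le _ hx) y (map_subtype_le _ hy),
      fun x hx => hA'e x (map_subtype_le _ hx),
      by rw [card_map_of_injective A'.subtype_injective, hE0]⟩
  have hgood : ∀ B : Subgroup G, IsPGroup p B → B ≠ ⊥ → Good p B :=
    fun B hB hne => good_of_localChar hGp hB hne
  have h3 := exists_fix hp2 hgood hE hT hTne
    ((map_subtype_le _).trans (map_subtype_le _))
  have step : ∀ k, ∃ F w, Fix (3 + k) p F (w : G) := by
    intro k
    induction k with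
    | zero => exact h3
    | succ k ih =>
      by_contra hno
      obtain ⟨F, w, hF⟩ := ih
      refine fix_false (m := 3 + k) ⟨hp2, by omega, ?_, hgood, fun w hw => char2_of_type hG2 hw⟩ hF
      intro F' w' hc he hn hw hcent
      exact hno ⟨F', w', ⟨hc, he, hn⟩, hw, hcent⟩
  obtain ⟨F, w, hF⟩ := step (Nat.card G)
  have h1 := card_le_card_group F
  rw [hF.ea.card] at h1
  have h2 := Nat.lt_pow_self (n := 3 + Nat.card G) hp.out.one_lt
  omega

end Cfsg.Agent.KlingerMason
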